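import Cfsg.Agent.Lib.GW.KleinFixed.Values
import Cfsg.Agent.Lib.ZStar.Main

/-!
# No nontrivial linear character of the odd part of `C(J)` is fixed by `C(J)`, four group case

The four characters over the linear character have signed degrees congruent to one modulo four,
neither `1` nor `-3`, with sum zero, so the class structure read against them is at most `3/5`;
read against the principal block it is at least `5/7`.
-/

set_option autoImplicit false
set_option linter.style.haveILetI false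
set_option linter.unusedSectionVars false
set_option maxHeartbeats 800000

namespace Cfsg.Agent.GW.KleinFixed

open Cfsg
open scoped ComplexConjugate
open KleinMoved (fixedPart mem_fixedPart commute_J sec sec_one classInner_sec sec_coset Invariant)

universe u

variable {G : Type u} [Group G] [Fintype G] {J : G} {d : KleinBlock.Data J}

/-- The class structure read against a function on the coset. -/
theorem sum_count_eq {f : G → ℂ} (hf : Invariant d f) :
    (Nat.card G : ℂ) * ∑ χ : IrrCharacter G, χ.1 J * χ.1 J * classInner (sec d f) χ.1 / χ.1 1 =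
      (Nat.card d.N : ℂ)⁻¹ * ∑ v ∈ ZStar.oddCentralizing J, f v *
        (Nat.card {p : G × G // p.1 * J * p.1⁻¹ * (p.2 * J * p.2⁻¹) = J * v} : ℂ) := by
  classical
  simp only [Char.card_conj_mul_conj_eq, classInner_sec hf (Blocks.irr_classFun _)]
  simp only [Finset.mul_sum, Finset.sum_div]
  rw [Finset.sum_comm]
  refine Finset.sum_congr rfl fun v _ => Finset.sum_congr rfl fun χ _ => ?_
  rw [Char.IsCharacter.conj_apply (Char.irr_isCharacter χ)]
  ring

namespace Fix

variable (F : Fix d)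

/-- The signed degree of a character equal to `w θ` on the nontrivial cosets. -/
theorem not_small [IsSimpleGroup G] (hG : ¬ IsMulCommutative G) (hne' : fixedPart d ≠ ⊥)
    {χ : IrrCharacter G} (hne : χ ≠ Char.trivialChar G) {w : ℤ} (hw : w = 1 ∨ w = -1)
    (hval : ∀ v ∈ d.N, χ.1 (J * v) = (w : ℂ) * F.th v) :
    4 ∣ w * (charDegree χ.1 : ℤ) - 1 ∧ w * (charDegree χ.1 : ℤ) ≠ 1 ∧
      w * (charDegree χ.1 : ℤ) ≠ -3 := by
  classical
  haveI := Fintype.ofFinite d.P
  haveI := Fintype.ofFinite (fixedPart d)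
  haveI := Fintype.ofFinite (⊥ : Subgroup G)
  have hJ1 : J ≠ 1 := fun h => by have := d.hJ; rw [h, orderOf_one] at this; omega
  have hmem : ∀ x : G, x ∈ ({1, J, d.u, d.u * J} : Finset G) ↔ x ∈ d.P := fun x => by
    simp only [Finset.mem_insert, Finset.mem_singleton]
    refine ⟨?_, d.two x⟩
    rintro (rfl | rfl | rfl | rfl)
    exacts [one_mem _, d.jmem, d.umem, mul_mem d.umem d.jmem]
  have e1 : (1 : G) ∉ ({J, d.u, d.u * J} : Finset G) := by
    simp [Ne.symm hJ1, Ne.symm d.u_ne_one, Ne.symm d.uJ_ne_one]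
  have e2 : J ∉ ({d.u, d.u * J} : Finset G) := by simp [d.ju, d.u_ne_one]
  have e3 : d.u ≠ d.u * J := fun h => hJ1 (mul_eq_left.1 h.symm)
  have hcl := Blocks.irr_classFun χ
  -- on the four group times the fixed part
  have hconst : ∀ q ∈ d.P, q ≠ 1 → ∀ y ∈ fixedPart d, χ.1 (q * y) = (w : ℂ) * F.th y := by
    intro q hq hq1 y hy
    obtain ⟨g, hg, hgth⟩ := F.exists_mover hq hq1
    obtain ⟨h1, h2⟩ := hgth y hy
    have e : q * y = g * (J * (g⁻¹ * y * g)) * g⁻¹ := by rw [← hg]; group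
    rw [e, hcl, hval _ (mem_fixedPart.1 h2).1, h1]
  set f : fixedPart d →* ℂ := F.θ.comp (Subgroup.inclusion inf_le_left) with hf
  have hfy : ∀ y : fixedPart d, f y = F.th y := fun y => by
    rw [hf, MonoidHom.comp_apply, ← F.th_coe, Subgroup.coe_inclusion]
  obtain ⟨m, hm⟩ := KleinMoved.exists_nat_sum (Char.irr_isCharacter χ) d.P (fixedPart d)
    (fun k hk y hy => by
      obtain ⟨hyN, hyu⟩ := mem_fixedPart.1 hy
      rcases d.two k hk with e | e | e | e <;> rw [e]
      exacts [Commute.one_left y, commute_J hyN, hyu, hyu.mul_left (commute_J hyN)]) f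
  obtain ⟨a, ha⟩ := KleinMoved.exists_nat_sum (Char.irr_isCharacter χ) d.P ⊥
    (fun k _ l hl => by rw [Subgroup.mem_bot.1 hl]; exact Commute.one_right k) 1
  simp only [MonoidHom.one_apply, map_one, mul_one] at ha
  simp only [hfy] at hm
  have hsumq : ∀ q ∈ d.P, q ≠ 1 → ∑ y : fixedPart d, χ.1 (q * y) * conj (F.th y) =
      (w : ℂ) * (Nat.card (fixedPart d) : ℂ) := fun q hq hq1 => by
    rw [Finset.sum_congr rfl (g := fun _ => (w : ℂ)) fun (y : fixedPart d) _ => by
      rw [hconst q hq hq1 y y.2, mul_assoc, F.conj_mul_th (mem_fixedPart.1 y.2).1, mul_one],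
      Finset.sum_const, Finset.card_univ, nsmul_eq_mul, ← Nat.card_eq_fintype_card, mul_comm]
  rw [← Finset.sum_subtype _ hmem (fun q => ∑ y : fixedPart d, χ.1 (q * y) * conj (F.th y)),
    Finset.sum_insert e1, Finset.sum_insert e2, Finset.sum_pair e3, hsumq J d.jmem hJ1,
    hsumq d.u d.umem d.u_ne_one, hsumq _ (mul_mem d.umem d.jmem) d.uJ_ne_one, d.cardP] at hm
  simp only [one_mul] at hm
  have hbot : ∀ k : G, ∑ l : (⊥ : Subgroup G), χ.1 (k * l) = χ.1 k := fun k => by
    rw [← Finset.sum_subtype ({1} : Finset G) (fun x => by simp [Subgroup.mem_bot])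
      (fun l => χ.1 (k * l)), Finset.sum_singleton, mul_one]
  simp only [hbot, Subgroup.card_bot, Nat.cast_one, mul_one, d.cardP] at ha
  rw [← Finset.sum_subtype _ hmem χ.1, Finset.sum_insert e1, Finset.sum_insert e2,
    Finset.sum_pair e3, ← Char.charDegree_cast] at ha
  have hone : ∀ q ∈ d.P, q ≠ 1 → χ.1 q = (w : ℂ) := fun q hq hq1 => by
    simpa [F.th_one] using hconst q hq hq1 1 (one_mem _)
  rw [hone J d.jmem hJ1, hone d.u d.umem d.u_ne_one,
    hone (d.u * J) (mul_mem d.umem d.jmem) d.uJ_ne_one] at ha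
  have hza : (charDegree χ.1 : ℤ) + 3 * w = 4 * (a : ℤ) := by
    have : (((charDegree χ.1 : ℤ) + 3 * w : ℤ) : ℂ) = ((4 * (a : ℤ) : ℤ) : ℂ) := by
      push_cast at ha ⊢
      linear_combination ha
    exact_mod_cast this
  have hdeg := Char.charDegree_pos χ
  refine ⟨by rcases hw with e | e <;> rw [e] at hza ⊢ <;> omega, fun h => ?_, fun h => ?_⟩
  · refine hne (SmallSimple.eq_trivialChar_of_degree_one hG χ ?_)
    have : charDegree χ.1 = 1 := by rcases hw with e | e <;> rw [e] at h <;> omega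
    rw [← Char.charDegree_cast, this, Nat.cast_one]
  · obtain ⟨h3, rfl⟩ : charDegree χ.1 = 3 ∧ w = -1 := by
      rcases hw with e | e <;> rw [e] at h ⊢ <;> omega
    push_cast at hm
    set D : ℝ := (Nat.card (fixedPart d) : ℝ) with hD
    have hre : ∑ y : fixedPart d, (χ.1 y * conj (F.th y)).re = (4 * (m : ℝ) + 3) * D := by
      have hm' : ∑ y : fixedPart d, χ.1 y * conj (F.th y) =
          ((4 * (m : ℝ) + 3) * D : ℝ) := by
        rw [hD]; push_cast; linear_combination hm
      rw [← Complex.re_sum, hm', Complex.ofReal_re]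
    have hnorm : ∀ y : fixedPart d, ‖F.th y‖ = 1 := fun y => by
      have h := congrArg (‖·‖) (F.conj_mul_th (mem_fixedPart.1 y.2).1)
      simp only [norm_mul, Complex.norm_conj, norm_one] at h
      nlinarith [norm_nonneg (F.th y)]
    have hn3 : ∀ y : fixedPart d, ‖χ.1 y * conj (F.th y)‖ ≤ 3 := fun y => by
      rw [norm_mul, Complex.norm_conj, hnorm, mul_one]
      refine (CharInt.norm_char_le (Char.irr_isCharacter χ) _).trans ?_
      rw [← Char.charDegree_cast, Complex.norm_natCast, h3]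
      norm_num
    have hsum : ∑ y : fixedPart d, (χ.1 y * conj (F.th y)).re = ∑ _y : fixedPart d, (3 : ℝ) := by
      have hup : ∑ y : fixedPart d, (χ.1 y * conj (F.th y)).re ≤ ∑ _y : fixedPart d, (3 : ℝ) :=
        Finset.sum_le_sum fun y _ => (Complex.re_le_norm _).trans (hn3 y)
      refine le_antisymm hup ?_
      rw [Finset.sum_const, Finset.card_univ, ← Nat.card_eq_fintype_card, nsmul_eq_mul, ← hD, hre]
      have : (0 : ℝ) ≤ D := Nat.cast_nonneg _
      have : (0 : ℝ) ≤ (m : ℝ) := Nat.cast_nonneg _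
      nlinarith
    have heach := (Finset.sum_eq_sum_iff_of_le fun y _ => (Complex.re_le_norm _).trans (hn3 y)).1 hsum
    obtain ⟨y, hy, hy1⟩ : ∃ y ∈ fixedPart d, y ≠ 1 := by
      rw [Ne, Subgroup.eq_bot_iff_forall] at hne'
      push Not at hne'
      exact hne'
    have hn : ‖χ.1 y‖ = ‖χ.1 1‖ := by
      refine le_antisymm (CharInt.norm_char_le (Char.irr_isCharacter χ) _) ?_
      rw [← Char.charDegree_cast, Complex.norm_natCast, h3]
      have h1 := heach ⟨y, hy⟩ (Finset.mem_univ _)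
      have h2 := Complex.re_le_norm (χ.1 y * conj (F.th y))
      rw [norm_mul, Complex.norm_conj, hnorm ⟨y, hy⟩, mul_one] at h2
      push_cast
      linarith
    obtain ⟨n, ρ, hρ, hρχ⟩ := χ.2
    rw [← hρχ] at hn
    obtain ⟨c, hc⟩ := (CharInt.norm_eq_iff_scalar ρ y).1 hn
    have hinj : Function.Injective ρ := by
      rcases ρ.normal_ker.eq_bot_or_eq_top with h | h
      · exact (MonoidHom.ker_eq_bot_iff _).1 h
      · exfalso
        refine hne (ZStar.eq_trivialChar_of_const fun g => ?_)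
        have hg : ρ g = 1 := ρ.mem_ker.1 (h ▸ Subgroup.mem_top g)
        rw [← hρχ, Representation.character, Representation.character, hg, map_one ρ]
    have hcen : y ∈ Subgroup.center G := Subgroup.mem_center_iff.2 fun g => hinj (by
      rw [map_mul, map_mul, hc, mul_smul_comm, smul_mul_assoc, one_mul, mul_one])
    rcases (inferInstance : (Subgroup.center G).Normal).eq_bot_or_eq_top with h | h
    · exact hy1 ((Subgroup.eq_bot_iff_forall _).1 h y hcen)
    · exact hG (isMulCommutative_iff.2 fun a b =>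
        (Subgroup.mem_center_iff.1 (h ▸ Subgroup.mem_top b) a))

/-- Four characters carry the class function, each equal to a sign times the linear character. -/
theorem exists_four :
    ∃ (T : Finset (IrrCharacter G)) (m : IrrCharacter G → ℤ), T.card = 4 ∧
      (∀ χ ∈ T, (m χ = 1 ∨ m χ = -1) ∧ ∀ v ∈ d.N, χ.1 (J * v) = (m χ : ℂ) * F.th v) ∧
      ∑ χ ∈ T, m χ * (charDegree χ.1 : ℤ) = 0 ∧
      ∑ χ : IrrCharacter G, χ.1 J * χ.1 J * classInner (sec d F.th) χ.1 / χ.1 1 =
        ∑ χ ∈ T, 1 / ((m χ * (charDegree χ.1 : ℤ) : ℤ) : ℂ) := by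
  classical
  haveI := Fintype.ofFinite d.N
  have ho : (Nat.card d.N : ℂ) ≠ 0 := KleinMoved.odd_ne_zero d
  have hint : ∀ χ : IrrCharacter G, ∃ k : ℤ, classInner (sec d F.th) χ.1 = (k : ℂ) ∧
      ∑ v : d.N, χ.1 (J * v) * conj (F.θ v) = (k : ℂ) * (Nat.card d.N : ℂ) := by
    intro χ
    obtain ⟨a, b, -, ha⟩ := KleinMoved.exists_average d (Char.irr_isCharacter χ) F.θ
    refine ⟨2 * (a : ℤ) - b, ?_, by rw [ha]; push_cast; rfl⟩
    rw [classInner_sec F.invariant_th (Blocks.irr_classFun χ),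
      KleinMoved.sum_odd d fun v => F.th v * conj (χ.1 (J * v))]
    have e : ∑ v : d.N, F.th v * conj (χ.1 (J * v)) =
        conj ((2 * (a : ℂ) - b) * (Nat.card d.N : ℂ)) := by
      rw [← ha, map_sum]
      exact Finset.sum_congr rfl fun v _ => by rw [map_mul, Complex.conj_conj, F.th_coe, mul_comm]
    rw [e]
    simp only [map_mul, map_sub, map_natCast, map_ofNat]
    push_cast
    field_simp
  choose m hm hmsum using hint
  have hdec : sec d F.th = ∑ χ, (m χ : ℂ) • χ.1 := by
    conv_lhs => rw [Char.eq_sum_classInner_smul (f := sec d F.th) (KleinMoved.isClassFunction_sec _)]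
    exact Finset.sum_congr rfl fun χ _ => by rw [hm]
  have hnorm : ∑ χ, m χ ^ 2 = 4 := by
    have h := Char.IsGeneralizedCharacter.classInner_self_eq_sum hdec
    rw [classInner_sec F.invariant_th (KleinMoved.isClassFunction_sec _),
      KleinMoved.sum_odd d fun v => F.th v * conj (sec d F.th (J * v)),
      Finset.sum_congr rfl (g := fun _ : d.N => (4 : ℂ)) (fun v _ => by
        rw [sec_coset F.invariant_th v.2, map_mul, map_ofNat, mul_left_comm,
          F.conj_mul_th v.2, mul_one]),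
      Finset.sum_const, Finset.card_univ, nsmul_eq_mul, ← Nat.card_eq_fintype_card,
      inv_mul_cancel_left₀ ho] at h
    exact_mod_cast h.symm
  have hdeg : ∑ χ : IrrCharacter G, m χ * (charDegree χ.1 : ℤ) = 0 := by
    have h := congrFun hdec 1
    rw [sec_one, Finset.sum_apply] at h
    simp only [Pi.smul_apply, smul_eq_mul, ← Char.charDegree_cast] at h
    have h' : ((0 : ℤ) : ℂ) = ((∑ χ : IrrCharacter G, m χ * (charDegree χ.1 : ℤ) : ℤ) : ℂ) := by
      push_cast
      exact_mod_cast h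
    exact (Int.cast_injective h').symm
  set T := Finset.univ.filter fun χ : IrrCharacter G => m χ ≠ 0 with hT
  have hz : ∀ χ ∉ T, m χ = 0 := fun χ hχ => by simpa [hT] using hχ
  have hpm : ∀ χ ∈ T, m χ = 1 ∨ m χ = -1 := by
    intro χ₀ hχ₀
    have hne := (Finset.mem_filter.1 hχ₀).2
    by_contra hbig
    have h4 : 4 ≤ m χ₀ ^ 2 := by
      rcases le_or_gt 2 (m χ₀) with h | h
      · nlinarith
      · have : m χ₀ ≤ -2 := by omega
        nlinarith
    have hrest := Finset.add_sum_erase Finset.univ (fun χ => m χ ^ 2) (Finset.mem_univ χ₀)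
    rw [hnorm] at hrest
    have h0 : ∀ χ ∈ Finset.univ.erase χ₀, m χ = 0 := fun χ hχ => sq_eq_zero_iff.1
      ((Finset.sum_eq_zero_iff_of_nonneg fun x _ => sq_nonneg _).1
        (le_antisymm (by linarith) (Finset.sum_nonneg fun x _ => sq_nonneg _)) χ hχ)
    rw [Finset.sum_eq_single χ₀ (fun χ _ h => by
      rw [h0 χ (Finset.mem_erase.2 ⟨h, Finset.mem_univ _⟩), zero_mul])
      (fun h => absurd (Finset.mem_univ _) h), mul_eq_zero] at hdeg
    exact hdeg.elim hne fun h => (Char.charDegree_pos χ₀).ne' (by exact_mod_cast h)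
  have hval : ∀ χ ∈ T, ∀ v ∈ d.N, χ.1 (J * v) = (m χ : ℂ) * F.th v := by
    intro χ hχ
    have h1 := F.apply_J_mul χ (by
      rw [KleinMoved.sum_odd d fun v => χ.1 (J * v) * conj (F.th v)]
      simp only [F.th_coe, hmsum]
      exact mul_ne_zero (Int.cast_ne_zero.2 (Finset.mem_filter.1 hχ).2) ho)
    have h2 := hmsum χ
    rw [Finset.sum_congr rfl (g := fun _ : d.N => χ.1 J) (fun v _ => by
      rw [h1 v v.2, ← F.th_coe, mul_assoc, F.conj_mul_th v.2, mul_one]), Finset.sum_const,
      Finset.card_univ, nsmul_eq_mul, ← Nat.card_eq_fintype_card, mul_comm] at h2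
    have h3 := mul_right_cancel₀ ho h2
    intro v hv
    rw [h1 v hv, h3]
  refine ⟨T, m, ?_, fun χ hχ => ⟨hpm χ hχ, hval χ hχ⟩, ?_, ?_⟩
  · have h : ((T.card : ℕ) : ℤ) = 4 := by
      rw [← hnorm, ← Finset.sum_subset (Finset.subset_univ T) fun χ _ hχ => by
        rw [hz χ hχ]; norm_num, Finset.sum_congr rfl (g := fun _ => (1 : ℤ)) (fun χ hχ => by
        rcases hpm χ hχ with e | e <;> rw [e] <;> norm_num), Finset.sum_const, nsmul_eq_mul, mul_one]
    exact_mod_cast h
  · rw [Finset.sum_subset (Finset.subset_univ T) fun χ _ hχ => by rw [hz χ hχ, zero_mul], hdeg]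
  · rw [← Finset.sum_subset (Finset.subset_univ T) fun χ _ hχ => by
      rw [hm, hz χ hχ, Int.cast_zero, mul_zero, zero_div]]
    refine Finset.sum_congr rfl fun χ hχ => ?_
    have h1 := hval χ hχ 1 d.N.one_mem
    rw [mul_one, F.th_one, mul_one] at h1
    rw [hm, h1]
    push_cast
    rw [Char.charDegree_cast]
    rcases hpm χ hχ with e | e <;> rw [e] <;> push_cast <;>
      simp [neg_div]

/-- **The four group case**: no nontrivial fixed linear character. -/
theorem false_of_nontrivial [IsSimpleGroup G] (hG : ¬ IsMulCommutative G) (hθ : F.θ ≠ 1) :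
    False := by
  classical
  obtain ⟨𝔐, h𝔐⟩ := ZStar.exists_isPModular_two
  haveI := Fintype.ofFinite d.N
  obtain ⟨y, hy, hy1⟩ := F.exists_fixed_ne hθ
  have hne' : fixedPart d ≠ ⊥ := fun h => hy1 (by
    rw [h, Subgroup.mem_bot] at hy; rw [hy, th_one])
  obtain ⟨T, m, hT, hval, hdeg, hsum⟩ := F.exists_four
  obtain ⟨T₀, m₀, hT₀, hval₀, hdeg₀, hsum₀⟩ := F.triv.exists_four
  have htriv : ∀ v ∈ d.N, F.triv.th v = 1 := fun v hv => F.triv.th_coe ⟨v, hv⟩
  -- the trivial character is one of the four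
  have hcount : (∑ χ ∈ T, 1 / ((m χ * (charDegree χ.1 : ℤ) : ℤ) : ℂ)) =
      ∑ χ ∈ T₀, 1 / ((m₀ χ * (charDegree χ.1 : ℤ) : ℤ) : ℂ) := by
    rw [← hsum, ← hsum₀]
    refine mul_left_cancel₀ (Char.card_ne_zero (G := G)) ?_
    rw [sum_count_eq F.invariant_th, sum_count_eq F.triv.invariant_th]
    congr 1
    refine Finset.sum_congr rfl fun v hv => ?_
    have hvN := (KleinMoved.mem_odd (d := d)).1 hv
    rcases isEmpty_or_nonempty {p : G × G // p.1 * J * p.1⁻¹ * (p.2 * J * p.2⁻¹) = J * v} with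
      hE | ⟨⟨⟨a, b⟩, hab⟩⟩
    · rw [Nat.card_of_isEmpty, Nat.cast_zero, mul_zero, mul_zero]
    · rw [F.th_eq_one_of_pair hvN hab, F.triv.th_eq_one_of_pair hvN hab]
  have ht : ∀ χ ∈ T₀, χ.1 J = (m₀ χ : ℂ) := fun χ hχ => by
    have := (hval₀ χ hχ).2 1 d.N.one_mem
    rwa [mul_one, th_one, mul_one] at this
  -- the principal four: the trivial character occurs
  have htT : Char.trivialChar G ∈ T₀ ∧ m₀ (Char.trivialChar G) = 1 := by
    have hin : ∀ χ : IrrCharacter G, classInner (sec d F.triv.th) χ.1 =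
        (Nat.card d.N : ℂ)⁻¹ * ∑ v : d.N, conj (χ.1 (J * v)) := fun χ => by
      rw [classInner_sec F.triv.invariant_th (Blocks.irr_classFun χ),
        KleinMoved.sum_odd d fun v => F.triv.th v * conj (χ.1 (J * v))]
      congr 1
      exact Finset.sum_congr rfl fun v _ => by rw [htriv v v.2, one_mul]
    by_contra hno
    -- orthogonality of the trivial character to the four
    have h1 : classInner (sec d F.triv.th) (Char.trivialChar G).1 = 1 := by
      rw [hin]
      simp only [Char.trivialChar_apply, map_one, Finset.sum_const, Finset.card_univ, nsmul_eq_mul,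
        mul_one, ← Nat.card_eq_fintype_card]
      exact inv_mul_cancel₀ (KleinMoved.odd_ne_zero d)
    have hnorm : classInner (sec d F.triv.th) (sec d F.triv.th) = 4 := by
      rw [classInner_sec F.triv.invariant_th (KleinMoved.isClassFunction_sec _),
        KleinMoved.sum_odd d fun v => F.triv.th v * conj (sec d F.triv.th (J * v)),
        Finset.sum_congr rfl (g := fun _ : d.N => (4 : ℂ)) (fun v _ => by
          rw [sec_coset F.triv.invariant_th v.2, htriv v v.2, mul_one, map_ofNat, one_mul]),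
        Finset.sum_const, Finset.card_univ, nsmul_eq_mul, ← Nat.card_eq_fintype_card,
        inv_mul_cancel_left₀ (KleinMoved.odd_ne_zero d)]
    have hcl : ∀ χ ∈ T₀, classInner (sec d F.triv.th) χ.1 = (m₀ χ : ℂ) := fun χ hχ => by
      rw [hin, Finset.sum_congr rfl (g := fun _ : d.N => (m₀ χ : ℂ)) (fun v _ => by
        rw [(hval₀ χ hχ).2 v v.2, htriv v v.2, mul_one, map_intCast]), Finset.sum_const,
        Finset.card_univ, nsmul_eq_mul, ← Nat.card_eq_fintype_card,
        inv_mul_cancel_left₀ (KleinMoved.odd_ne_zero d)]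
    have hP := Char.eq_sum_classInner_smul (f := sec d F.triv.th) (KleinMoved.isClassFunction_sec _)
    choose k hk using fun χ : IrrCharacter G => (show ∃ k : ℤ,
        classInner (sec d F.triv.th) χ.1 = (k : ℂ) from by
      obtain ⟨a, b, -, ha⟩ := KleinMoved.exists_average d (Char.irr_isCharacter χ) (1 : d.N →* ℂ)
      refine ⟨2 * (a : ℤ) - b, ?_⟩
      simp only [MonoidHom.one_apply, map_one, mul_one] at ha
      rw [hin, ← map_sum, ha]
      simp only [map_mul, map_sub, map_natCast, map_ofNat]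
      push_cast
      field_simp [KleinMoved.odd_ne_zero d])
    have hdec : sec d F.triv.th = ∑ χ, (k χ : ℂ) • χ.1 :=
      hP.trans (Finset.sum_congr rfl fun χ _ => by rw [hk])
    have hsq : ∑ χ, k χ ^ 2 = 4 := by
      have h := Char.IsGeneralizedCharacter.classInner_self_eq_sum hdec
      rw [hnorm] at h
      exact_mod_cast h.symm
    have hT4 : ∑ χ ∈ T₀, k χ ^ 2 = 4 := by
      rw [Finset.sum_congr rfl (g := fun _ => (1 : ℤ)) fun χ hχ => ?_, Finset.sum_const, hT₀]
      · rfl
      · have e : k χ = m₀ χ := by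
          have := (hk χ).symm.trans (hcl χ hχ); exact_mod_cast this
        rcases (hval₀ χ hχ).1 with f | f <;> rw [e, f] <;> norm_num
    have hk1 : k (Char.trivialChar G) = 1 := by
      have := (hk _).symm.trans h1; exact_mod_cast this
    have hnT : Char.trivialChar G ∉ T₀ := fun h => hno ⟨h, by
      have := ht _ h
      rw [Char.trivialChar_apply] at this
      exact_mod_cast this.symm⟩
    have h5 := Finset.sum_le_sum_of_subset_of_nonneg (Finset.subset_univ (insert (Char.trivialChar G) T₀))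
      (f := fun χ => k χ ^ 2) fun χ _ _ => sq_nonneg _
    rw [Finset.sum_insert hnT, hT4, hsq, hk1] at h5
    norm_num at h5
  obtain ⟨htmem, htm⟩ := htT
  -- signed degrees
  set z := fun χ : IrrCharacter G => m χ * (charDegree χ.1 : ℤ) with hzdef
  set z₀ := fun χ : IrrCharacter G => m₀ χ * (charDegree χ.1 : ℤ) with hz₀def
  have hnt : ∀ χ ∈ T, χ ≠ Char.trivialChar G := by
    rintro χ hχ rfl
    refine hθ (MonoidHom.ext fun v => ?_)
    have h1 := (hval _ hχ).2 1 d.N.one_mem
    have h2 := (hval _ hχ).2 v v.2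
    simp only [Char.trivialChar_apply, th_one, mul_one] at h1 h2
    rw [← h1, one_mul, th_coe] at h2
    rw [← h2, MonoidHom.one_apply]
  have hb : ∀ χ ∈ T, 4 ∣ z χ - 1 ∧ z χ ≠ 1 ∧ z χ ≠ -3 := fun χ hχ =>
    F.not_small hG hne' (hnt χ hχ) (hval χ hχ).1 (hval χ hχ).2
  have hb₀ : ∀ χ ∈ T₀.erase (Char.trivialChar G), 4 ∣ z₀ χ - 1 ∧ z₀ χ ≠ 1 ∧ z₀ χ ≠ -3 :=
    fun χ hχ => by
      obtain ⟨hne, hχ'⟩ := Finset.mem_erase.1 hχ
      exact F.triv.not_small hG hne' hne (hval₀ χ hχ').1 (hval₀ χ hχ').2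
  have hdt : charDegree (Char.trivialChar G).1 = 1 := Nat.cast_injective (R := ℂ)
    (by rw [Char.charDegree_cast, Char.trivialChar_apply, Nat.cast_one])
  have hz₀t : z₀ (Char.trivialChar G) = 1 := by simp [hz₀def, htm, hdt]
  have hd₀ : ∑ χ ∈ T₀.erase (Char.trivialChar G), z₀ χ = -1 := by
    have h := Finset.add_sum_erase T₀ z₀ htmem
    rw [hz₀t] at h
    simp only [hz₀def] at h hdeg₀ ⊢
    omega
  -- real parts
  have hT0c : (T₀.erase (Char.trivialChar G)).card = 3 := by
    rw [Finset.card_erase_of_mem htmem, hT₀]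
  obtain ⟨a, b, c, hab, hac, hbc, habc⟩ := Finset.card_eq_three.1 hT0c
  rw [habc] at hb₀ hd₀
  rw [Finset.sum_insert (by simp [hab, hac]), Finset.sum_pair hbc] at hd₀
  have hreal : (∑ χ ∈ T, 1 / (z χ : ℝ)) = 1 + (1 / (z₀ a : ℝ) + (1 / (z₀ b : ℝ) + 1 / (z₀ c : ℝ))) := by
    apply Complex.ofReal_injective
    push_cast
    have h := hcount
    rw [← Finset.add_sum_erase T₀ _ htmem, habc, Finset.sum_insert (by simp [hab, hac]),
      Finset.sum_pair hbc] at h
    simp only [hzdef, hz₀def] at h hz₀t ⊢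
    rw [hz₀t] at h
    push_cast at h ⊢
    rw [h]
    norm_num
  have hlow : ∀ x : ℤ, (4 ∣ x - 1 ∧ x ≠ 1 ∧ x ≠ -3) →
      (5 ≤ x ∧ 0 ≤ 1 / (x : ℝ) ∧ 1 / (x : ℝ) ≤ 1 / 5) ∨
        (x ≤ -7 ∧ -(1 / 7) ≤ 1 / (x : ℝ) ∧ 1 / (x : ℝ) ≤ 0) := by
    intro x hx
    rcases (show 5 ≤ x ∨ x ≤ -7 by omega) with h | h
    · have h' : (5 : ℝ) ≤ x := by exact_mod_cast h
      exact Or.inl ⟨h, by positivity, one_div_le_one_div_of_le (by norm_num) h'⟩
    · have h' : (x : ℝ) ≤ -7 := by exact_mod_cast h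
      refine Or.inr ⟨h, ?_, ?_⟩
      · have h7 : (7 : ℝ) ≤ -x := by linarith
        have h1 := one_div_le_one_div_of_le (by norm_num : (0 : ℝ) < 7) h7
        rw [one_div_neg_eq_neg_one_div] at h1
        linarith
      · exact div_nonpos_of_nonneg_of_nonpos zero_le_one (by linarith)
  -- one of the four over the linear character is negative
  have hhigh : (∑ χ ∈ T, 1 / (z χ : ℝ)) ≤ 3 / 5 := by
    obtain ⟨χ₀, hχ₀, hneg⟩ : ∃ χ ∈ T, z χ < 0 := by
      by_contra hall
      push Not at hall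
      have h5 : ∀ χ ∈ T, (5 : ℤ) ≤ z χ := fun χ hχ => by
        have := hall χ hχ
        obtain ⟨h1, h2, h3⟩ := hb χ hχ
        omega
      have := Finset.card_nsmul_le_sum T z 5 h5
      rw [hT, show ∑ χ ∈ T, z χ = 0 from hdeg] at this
      norm_num at this
    rw [← Finset.add_sum_erase T _ hχ₀]
    have h1 : 1 / (z χ₀ : ℝ) ≤ 0 :=
      div_nonpos_of_nonneg_of_nonpos zero_le_one (by exact_mod_cast hneg.le)
    have h2 : ∑ χ ∈ T.erase χ₀, 1 / (z χ : ℝ) ≤ (T.erase χ₀).card • (1 / 5 : ℝ) :=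
      Finset.sum_le_card_nsmul _ _ _ fun χ hχ => by
        rcases hlow _ (hb χ (Finset.mem_of_mem_erase hχ)) with ⟨-, -, h⟩ | ⟨-, -, h⟩ <;> linarith
    rw [Finset.card_erase_of_mem hχ₀, hT] at h2
    norm_num at h2 ⊢
    simp only [one_div] at h1
    linarith
  -- at most two of the principal ones are negative
  rcases hlow _ (hb₀ a (by simp)) with ⟨a1, a2, -⟩ | ⟨a1, a2, -⟩ <;>
    rcases hlow _ (hb₀ b (by simp)) with ⟨b1, b2, -⟩ | ⟨b1, b2, -⟩ <;>
    rcases hlow _ (hb₀ c (by simp)) with ⟨c1, c2, -⟩ | ⟨c1, c2, -⟩ <;>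
    first
      | omega
      | linarith

end Fix

end Cfsg.Agent.GW.KleinFixed
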