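import Cfsg.Agent.Lib.GW.KleinMoved.Section

/-!
# A linear character of the odd part of `C(J)` fixed by `C(J)`, four group case
-/

set_option autoImplicit false
set_option linter.style.haveILetI false
set_option linter.unusedSectionVars false

namespace Cfsg.Agent.GW.KleinFixed

open Cfsg
open scoped ComplexConjugate
open KleinMoved (fixedPart mem_fixedPart commute_J jinv)

universe u

variable {G : Type u} [Group G] [Fintype G] {J : G}

/-- A linear character of `N` fixed by the four group, whose restriction to `N ∩ C(u)` is fixed by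
the element `r` moving the four group. -/
structure Fix (d : KleinBlock.Data J) where
  r : G
  rJ : r * J * r⁻¹ = d.u
  ru : r * d.u * r⁻¹ = d.u * J
  θ : d.N →* ℂ
  inv : ∀ v w : d.N, (w : G) = d.u * v * d.u⁻¹ → θ w = θ v
  shift : ∀ y z : d.N, Commute d.u (y : G) → (z : G) = r * y * r⁻¹ → θ y = θ z

variable {d : KleinBlock.Data J}

namespace Fix

variable (F : Fix d)

open Classical in
/-- The characters, extended by zero. -/
noncomputable def th (g : G) : ℂ := if h : g ∈ d.N then F.θ ⟨g, h⟩ else 0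

theorem th_coe (v : d.N) : F.th (v : G) = F.θ v := by
  rw [th, dif_pos v.2]

theorem th_one : F.th 1 = 1 :=
  (F.th_coe 1).trans (map_one _)

theorem th_mul {v w : G} (hv : v ∈ d.N) (hw : w ∈ d.N) :
    F.th (v * w) = F.th v * F.th w :=
  (F.th_coe (⟨v, hv⟩ * ⟨w, hw⟩)).trans (by rw [map_mul, ← F.th_coe, ← F.th_coe])

theorem conj_mul_th {v : G} (hv : v ∈ d.N) : F.th v * conj (F.th v) = 1 := by
  have := Char.normSq_linear (F.θ) ⟨v, hv⟩
  rwa [← F.th_coe] at this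

theorem th_conj_eq_inv {v : G} (hv : v ∈ d.N) :
    conj (F.th v) = F.θ (⟨v, hv⟩⁻¹) := by
  have h := F.conj_mul_th hv
  rw [show F.th v = F.θ ⟨v, hv⟩ from F.th_coe ⟨v, hv⟩] at h ⊢
  exact mul_left_cancel₀ (left_ne_zero_of_mul_eq_one h) (h.trans (by rw [← map_mul, mul_inv_cancel, map_one]))

theorem th_ne_zero {v : G} (hv : v ∈ d.N) : F.th v ≠ 0 :=
  left_ne_zero_of_mul_eq_one (F.conj_mul_th hv)

theorem th_eq_one_of_sq {v : G} (hv : v ∈ d.N) (h : F.th v ^ 2 = 1) :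
    F.th v = 1 := by
  have h1 : F.th v ^ orderOf v = 1 := by
    rw [show v = ((⟨v, hv⟩ : d.N) : G) from rfl, F.th_coe, Subgroup.orderOf_coe, ← map_pow,
      pow_orderOf_eq_one, map_one]
  have := pow_gcd_eq_one.2 ⟨h, h1⟩
  rwa [Nat.coprime_iff_gcd_eq_one.1 (Nat.coprime_two_left.2 (d.odd_of_mem hv)), pow_one] at this

theorem th_conj  {c v : G} (hc : Commute J c) (hv : v ∈ d.N) :
    F.th (c * v * c⁻¹) = F.th v := by
  obtain ⟨q, hq, w, hw, rfl⟩ := d.decomp c hc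
  have hwv : w * v * w⁻¹ ∈ d.N := mul_mem (mul_mem hw hv) (d.N.inv_mem hw)
  have hu : ∀ x ∈ d.N, F.th (d.u * x * d.u⁻¹) = F.th x := fun x hx => by
    have hm := d.conjN d.u (d.comm J d.jmem d.u d.umem) x hx
    exact ((F.th_coe ⟨_, hm⟩).trans (F.inv ⟨x, hx⟩ ⟨_, hm⟩ rfl)).trans (F.th_coe ⟨x, hx⟩).symm
  have h1 : F.th (w * v * w⁻¹) = F.th v := by
    have e := (F.th_mul hw (d.N.inv_mem hw))
    rw [mul_inv_cancel, th_one] at e
    rw [F.th_mul (mul_mem hw hv) (d.N.inv_mem hw), F.th_mul hw hv]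
    linear_combination -(F.th v) * e
  rw [show q * w * v * (q * w)⁻¹ = q * (w * v * w⁻¹) * q⁻¹ by group]
  have hJ : ∀ x ∈ d.N, J * x * J⁻¹ = x := fun x hx => by
    rw [(commute_J hx).eq, mul_inv_cancel_right]
  rcases d.two q hq with e | e | e | e <;> rw [e]
  · rw [one_mul, inv_one, mul_one, h1]
  · rw [hJ _ hwv, h1]
  · rw [hu _ hwv, h1]
  · rw [show d.u * J * (w * v * w⁻¹) * (d.u * J)⁻¹ = d.u * (J * (w * v * w⁻¹) * J⁻¹) * d.u⁻¹ by group,
      hJ _ hwv, hu _ hwv, h1]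

theorem th_eq_one_of_pair  {v x y : G} (hv : v ∈ d.N)
    (h : x * J * x⁻¹ * (y * J * y⁻¹) = J * v) : F.th v = 1 := by
  have hsq : ∀ z : G, z * J * z⁻¹ * (z * J * z⁻¹) = 1 := fun z => by
    rw [show z * J * z⁻¹ * (z * J * z⁻¹) = z * (J * J) * z⁻¹ by group, d.sq J d.jmem, mul_one,
      mul_inv_cancel]
  have hs2 := hsq x
  have ht2 := hsq y
  generalize x * J * x⁻¹ = s at h hs2
  generalize y * J * y⁻¹ = t at h ht2
  have hco : (Nat.card d.N).Coprime (orderOf J) := by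
    rw [d.hJ]; exact Nat.coprime_two_right.2 d.oddN
  obtain ⟨n, hn⟩ := GlauCyclic.mul_pow_eq_self hco
  have hJv : (J * v) ^ n = J := by
    rw [(commute_J hv).eq]
    exact hn v hv (commute_J hv).symm
  have h1 : s * (J * v) * s⁻¹ = (J * v)⁻¹ := by
    rw [← h, mul_inv_rev, inv_eq_of_mul_eq_one_right hs2, inv_eq_of_mul_eq_one_right ht2,
      ← mul_assoc s s t, hs2, one_mul]
  have h2 : s * J * s⁻¹ = J := by
    conv_lhs => rw [← hJv]
    rw [← conj_pow, h1, inv_pow, hJv, jinv d]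
  have hsJ : Commute J s := (mul_inv_eq_iff_eq_mul.1 h2).symm
  have h3 : s * v * s⁻¹ = v⁻¹ := by
    rw [show s * (J * v) * s⁻¹ = s * J * s⁻¹ * (s * v * s⁻¹) by group, h2, mul_inv_rev, jinv d,
      ← (commute_J (d.N.inv_mem hv)).eq] at h1
    exact mul_left_cancel h1
  have h4 := F.th_conj hsJ hv
  rw [h3] at h4
  have h5 := F.th_mul hv (d.N.inv_mem hv)
  rw [mul_inv_cancel, th_one, h4] at h5
  exact F.th_eq_one_of_sq hv (by rw [pow_two, ← h5])

theorem th_shift {y : G} (hy : y ∈ fixedPart d) (hz : F.r * y * F.r⁻¹ ∈ d.N) :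
    F.th y = F.th (F.r * y * F.r⁻¹) := by
  obtain ⟨hyN, hyu⟩ := mem_fixedPart.1 hy
  exact ((F.th_coe ⟨y, hyN⟩).trans (F.shift ⟨y, hyN⟩ ⟨_, hz⟩ hyu rfl)).trans
    (F.th_coe ⟨_, hz⟩).symm

/-- `r` normalises `N ∩ C(u)`. -/
theorem conj_mem_fixedPart {y : G} (hy : y ∈ fixedPart d) :
    F.r * y * F.r⁻¹ ∈ fixedPart d ∧ F.r⁻¹ * y * F.r ∈ fixedPart d := by
  obtain ⟨hyN, hyu⟩ := mem_fixedPart.1 hy
  have hyJ := commute_J hyN
  have hyv : Commute (d.u * J) y := hyu.mul_left hyJ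
  have e1 : ∀ a : G, MulAut.conj F.r a = F.r * a * F.r⁻¹ := fun a => rfl
  have e2 : ∀ a : G, MulAut.conj F.r⁻¹ a = F.r⁻¹ * a * F.r := fun a => by
    rw [MulAut.conj_apply, inv_inv]
  have a1 := hyJ.map (MulAut.conj F.r)
  have a2 := hyu.map (MulAut.conj F.r)
  rw [e1, e1, F.rJ] at a1
  rw [e1, e1, F.ru] at a2
  have hr1 : F.r⁻¹ * d.u * F.r = J := by rw [← F.rJ]; group
  have hr2 : F.r⁻¹ * (d.u * J) * F.r = d.u := by rw [← F.ru]; group
  have b1 := hyu.map (MulAut.conj F.r⁻¹)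
  have b2 := hyv.map (MulAut.conj F.r⁻¹)
  rw [e2, e2, hr1] at b1
  rw [e2, e2, hr2] at b2
  have ho : ∀ c : G, Odd (orderOf (c * y * c⁻¹)) := fun c => by
    rw [← MulAut.conj_apply, MulEquiv.orderOf_eq]
    exact d.odd_of_mem hyN
  refine ⟨mem_fixedPart.2 ⟨(d.mem_N _).2 ⟨?_, ho _⟩, a1⟩,
    mem_fixedPart.2 ⟨(d.mem_N _).2 ⟨b1, ?_⟩, b2⟩⟩
  · have h := a1.mul_left a2
    rwa [← mul_assoc, d.sq d.u d.umem, one_mul] at h
  · have := ho F.r⁻¹
    rwa [inv_inv] at this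

theorem sum_fixed_conj [Fintype (fixedPart d)] (f : G → ℂ) :
    ∑ y : fixedPart d, f (F.r * y * F.r⁻¹) = ∑ y : fixedPart d, f y :=
  Fintype.sum_equiv
    { toFun := fun y => ⟨F.r * (y : G) * F.r⁻¹, (F.conj_mem_fixedPart y.2).1⟩
      invFun := fun y => ⟨F.r⁻¹ * (y : G) * F.r, (F.conj_mem_fixedPart y.2).2⟩
      left_inv := fun y => Subtype.ext (by simp only; group)
      right_inv := fun y => Subtype.ext (by simp only; group) } _ _ fun _ => rfl

/-- Every element of `N` differs from one of `N ∩ C(u)` by one inverted by `u`. -/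
theorem exists_fixed_th  {v : G} (hv : v ∈ d.N) :
    ∃ y ∈ fixedPart d, F.th v = F.th y := by
  classical
  haveI := Fintype.ofFinite (d.InvolCoset d.u)
  haveI := Fintype.ofFinite (fixedPart d)
  haveI := Fintype.ofFinite d.N
  have huinv : d.u⁻¹ = d.u := inv_eq_of_mul_eq_one_right (d.sq d.u d.umem)
  have hinv : ∀ x : d.InvolCoset d.u, d.u * (x.1 : G) * d.u⁻¹ = (x.1 : G)⁻¹ := fun x => by
    refine eq_inv_of_mul_eq_one_right ?_
    have := x.2
    rw [huinv]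
    calc (x.1 : G) * (d.u * x.1 * d.u) = (x.1 : G) * d.u * ((x.1 : G) * d.u) := by group
      _ = 1 := this
  let f : d.InvolCoset d.u × fixedPart d → d.N := fun p =>
    ⟨(p.1.1 : G) * p.2, mul_mem p.1.1.2 (mem_fixedPart.1 p.2.2).1⟩
  have hf : Function.Injective f := by
    rintro ⟨x, y⟩ ⟨x', y'⟩ h
    have h0 : (x.1 : G) * y = (x'.1 : G) * y' := congrArg Subtype.val h
    set c : G := (y : G) * (y' : G)⁻¹ with hc
    have hcD : c ∈ fixedPart d := mul_mem y.2 (inv_mem y'.2)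
    have hx' : (x'.1 : G) = x.1 * c := by
      rw [hc, ← mul_assoc, h0, mul_inv_cancel_right]
    have hcu : d.u * c * d.u⁻¹ = c := by rw [(mem_fixedPart.1 hcD).2.eq, mul_inv_cancel_right]
    have h1 : (x.1 : G)⁻¹ * c = c⁻¹ * (x.1 : G)⁻¹ :=
      calc (x.1 : G)⁻¹ * c = (d.u * x.1 * d.u⁻¹) * (d.u * c * d.u⁻¹) := by rw [hinv x, hcu]
        _ = d.u * (x'.1 : G) * d.u⁻¹ := by rw [hx']; group
        _ = _ := by rw [hinv x', hx', mul_inv_rev]
    have h2 : (x.1 : G) * c⁻¹ * (x.1 : G)⁻¹ = c := by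
      rw [mul_assoc, ← h1, mul_inv_cancel_left]
    have h3 : Commute ((x.1 : G) ^ 2) c := by
      show (x.1 : G) ^ 2 * c = c * (x.1 : G) ^ 2
      have h4 : (x.1 : G) * c * (x.1 : G)⁻¹ = c⁻¹ := by
        have := congrArg (·⁻¹) h2
        simpa [mul_assoc] using this
      calc (x.1 : G) ^ 2 * c = (x.1 : G) * ((x.1 : G) * c * (x.1 : G)⁻¹) * (x.1 : G)⁻¹ * (x.1 : G) ^ 2 := by
            rw [pow_two]; group
        _ = _ := by rw [h4, h2]
    obtain ⟨i, hi⟩ := d.odd_of_mem x.1.2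
    have hx : Commute (x.1 : G) c := by
      have h5 : (x.1 : G) = ((x.1 : G) ^ 2) ^ (i + 1) := by
        rw [← pow_mul, show 2 * (i + 1) = orderOf (x.1 : G) + 1 by omega, pow_succ, pow_orderOf_eq_one,
          one_mul]
      rw [h5]
      exact h3.pow_left _
    have h6 : c⁻¹ = c := by
      conv_rhs => rw [← h2]
      rw [hx.inv_right.eq, mul_inv_cancel_right]
    have hc1 : c = 1 := d.N_eq_one_of_sq (mem_fixedPart.1 hcD).1 (by
      nth_rewrite 1 [← h6]; rw [inv_mul_cancel])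
    have hy : (y : G) = y' := by rwa [hc, mul_inv_eq_one] at hc1
    rw [hy, mul_left_inj] at h0
    exact Prod.ext (Subtype.ext (Subtype.ext h0)) (Subtype.ext hy)
  have hsurj : Function.Surjective f := ((Nat.bijective_iff_injective_and_card f).2 ⟨hf, by
    rw [Nat.card_prod]; exact d.card_involCoset_mul d.umem⟩).2
  obtain ⟨⟨x, y⟩, hxy⟩ := hsurj ⟨v, hv⟩
  have hxy' : (x.1 : G) * y = v := congrArg Subtype.val hxy
  refine ⟨y, y.2, ?_⟩
  have h1 : F.th ((x.1 : G)⁻¹) = F.th x.1 := by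
    rw [← hinv x, F.th_conj (d.comm J d.jmem d.u d.umem) x.1.2]
  have h2 := F.th_mul x.1.2 (d.N.inv_mem x.1.2)
  rw [mul_inv_cancel, th_one, h1] at h2
  rw [← hxy', F.th_mul x.1.2 (mem_fixedPart.1 y.2).1, F.th_eq_one_of_sq x.1.2 (by rw [pow_two, ← h2]),
    one_mul]

theorem invariant_th : KleinMoved.Invariant d F.th := fun _ _ hc hv => F.th_conj hc hv

/-- The trivial character with the same element. -/
def triv : Fix d where
  r := F.r
  rJ := F.rJ
  ru := F.ru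
  θ := 1
  inv _ _ _ := rfl
  shift _ _ _ _ := rfl

theorem exists_fixed_ne (hθ : F.θ ≠ 1) : ∃ y ∈ fixedPart d, F.th y ≠ 1 := by
  by_contra hall
  push Not at hall
  refine hθ (MonoidHom.ext fun v => ?_)
  obtain ⟨y, hy, h⟩ := F.exists_fixed_th v.2
  rw [← th_coe, h, hall y hy, MonoidHom.one_apply]

end Fix

end Cfsg.Agent.GW.KleinFixed
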