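import Cfsg.Agent.Lib.GW.KleinFixed.Setting
import Cfsg.Agent.Lib.GW.KleinMoved.Main
import Cfsg.Agent.Lib.GW.LinearFixed.Twist

/-!
# The block over a fixed linear character, four group case: values on the coset `J N`
-/

set_option autoImplicit false
set_option linter.style.haveILetI false
set_option linter.unusedSectionVars false
set_option maxHeartbeats 800000

namespace Cfsg.Agent.GW.KleinFixed

open Cfsg
open scoped ComplexConjugate Cfsg.Agent.Blocks
open KleinMoved (fixedPart mem_fixedPart commute_J)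
open LinearFixed (MulOn twEl twEl_congr conjEl_twEl twEl_mem_centerIn twEl_mem_fixedBy twEl_idem
  twEl_ne_zero br_twEl step_down blk_mul_twEl_cases)

universe u

variable {G : Type u} [Group G] [Fintype G] {J : G} {d : KleinBlock.Data J}

theorem centralizer_le_of_J {R : Subgroup G} (hJR : J ∈ R) {c : G}
    (hc : c ∈ Subgroup.centralizer (R : Set G)) : Commute J c :=
  Subgroup.mem_centralizer_iff.1 hc _ hJR

theorem isPGroup_P (d : KleinBlock.Data J) : IsPGroup 2 d.P :=
  IsPGroup.of_card (n := 2) (by rw [d.cardP]; norm_num)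

/-- The four group is a maximal 2-subgroup. -/
theorem eq_P_of_le (d : KleinBlock.Data J) {R : Subgroup G} (hR : IsPGroup 2 R) (hle : d.P ≤ R) :
    R = d.P := by
  haveI : Fact (Nat.Prime 2) := ⟨Nat.prime_two⟩
  have hsq : ∀ x ∈ R, x * x = 1 := fun x hx => by
    obtain ⟨k, hk⟩ := hR ⟨x, hx⟩
    have hk' : orderOf x ∣ 2 ^ k := orderOf_dvd_of_pow_eq_one (congrArg Subtype.val hk)
    obtain ⟨s, -, hs⟩ := (Nat.dvd_prime_pow Nat.prime_two).1 hk'
    rcases (KleinMoved.invData d).two_elem x ⟨s, hs⟩ with h | h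
    · rw [h, one_mul]
    · rw [← pow_two, ← h, pow_orderOf_eq_one]
  have hRJ : R ≤ Subgroup.centralizer ({J} : Set G) := fun x hx => by
    refine Subgroup.mem_centralizer_singleton_iff.2 ?_
    have hinv : ∀ {y}, y ∈ R → y⁻¹ = y := fun {y} hy => inv_eq_of_mul_eq_one_right (hsq y hy)
    have h := hinv (R.mul_mem hx (hle d.jmem))
    rw [mul_inv_rev, hinv hx, hinv (hle d.jmem)] at h
    exact h.symm
  obtain ⟨n, hn⟩ := IsPGroup.iff_card.1 hR
  have hdvd : Nat.card R ∣ 4 * Nat.card d.N :=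
    (Subgroup.card_dvd_of_le hRJ).trans (by rw [d.card_centralizer_J])
  have h4 : Nat.card R ∣ 4 := by
    refine Nat.Coprime.dvd_of_dvd_mul_right ?_ hdvd
    rw [hn]
    exact (Nat.coprime_two_left.2 d.oddN).pow_left n
  exact (Subgroup.eq_of_le_of_card_ge hle
    (by rw [d.cardP]; exact Nat.le_of_dvd (by norm_num) h4)).symm

namespace Fix

variable (F : Fix d) {M : Ideal AlgInt} [M.IsMaximal] [CharP (AlgInt ⧸ M) 2]

theorem mulOn (R : Subgroup G) : MulOn (d.N ⊓ R) F.th :=
  ⟨F.th_one, fun _ ha _ hb => F.th_mul ha.1 hb.1⟩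

theorem memLocalRing_th {x : G} (hx : x ∈ d.N) : MemLocalRing M (F.th x) := by
  refine Blocks.memLocalRing_of_isIntegral ?_
  refine IsIntegral.of_pow (Nat.pos_of_ne_zero (orderOf_pos x).ne') ?_
  rw [show x = ((⟨x, hx⟩ : d.N) : G) from rfl, F.th_coe, Subgroup.orderOf_coe, ← map_pow,
    pow_orderOf_eq_one, map_one]
  exact isIntegral_one

variable (M) in
/-- The idempotent of the character at a subgroup. -/
noncomputable def zR (R : Subgroup G) : MonoidAlgebra (AlgInt ⧸ M) G :=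
  twEl (d.N ⊓ Subgroup.centralizer (R : Set G)) fun x => Blocks.red M (F.th x)

theorem red_mulOn (R : Subgroup G) : MulOn (d.N ⊓ R) fun x => Blocks.red M (F.th x) :=
  ⟨by simp only [th_one, Blocks.red_one], fun a ha b hb => by
    simp only [F.th_mul ha.1 hb.1]
    exact Blocks.red_mul (F.memLocalRing_th ha.1) (F.memLocalRing_th hb.1)⟩

theorem not_two_dvd (R : Subgroup G) : ¬ 2 ∣ Nat.card (d.N ⊓ R : Subgroup G) := fun h =>
  (Nat.not_even_iff_odd.2 d.oddN)
    (even_iff_two_dvd.2 (h.trans (Subgroup.card_dvd_of_le inf_le_left)))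

theorem conj_mem_inf {R : Subgroup G} {c : G} (hcJ : Commute J c)
    (hcR : c ∈ Subgroup.normalizer (R : Set G)) :
    c ∈ Subgroup.normalizer ((d.N ⊓ Subgroup.centralizer (R : Set G) : Subgroup G) : Set G) :=
  BrauerPairs.mem_normalizer_of_conj_le fun x hx =>
    ⟨d.conjN c hcJ x hx.1,
      ((Subgroup.mem_normalizer_iff.1 (BrauerPairs.normalizer_le_normalizer_centralizer R hcR)) x).1
        hx.2⟩

theorem zR_mem {R : Subgroup G} (hJR : J ∈ R) :
    F.zR M R ∈ BrauerPairs.centerIn (AlgInt ⧸ M) (Subgroup.centralizer (R : Set G)) :=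
  twEl_mem_centerIn inf_le_right
    (fun _ hc => conj_mem_inf (centralizer_le_of_J hJR hc) (Subgroup.centralizer_le_normalizer _ hc))
    fun c hc x hx => by simp only [F.th_conj (centralizer_le_of_J hJR hc) hx.1]

theorem zR_idem (R : Subgroup G) : F.zR M R * F.zR M R = F.zR M R :=
  twEl_idem (p := 2) (not_two_dvd _) (F.red_mulOn _)

theorem zR_fixed {R T : Subgroup G} (hT : ∀ c ∈ T, Commute J c)
    (hTR : T ≤ Subgroup.normalizer (R : Set G)) :
    F.zR M R ∈ BrauerPairs.fixedBy (AlgInt ⧸ M) T :=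
  twEl_mem_fixedBy (fun _ hc => conj_mem_inf (hT _ hc) (hTR hc))
    fun c hc x hx => by simp only [F.th_conj (hT c hc) hx.1]

theorem br_zR {R T : Subgroup G} (hTp : IsPGroup 2 T) (hRT : R ≤ T)
    (hT : ∀ c ∈ T, Commute J c) (hTR : T ≤ Subgroup.normalizer (R : Set G)) :
    BrauerPairs.br T (F.zR M R) = F.zR M T := by
  rw [zR, br_twEl hTp (fun _ hc => conj_mem_inf (hT _ hc) (hTR hc))]
  refine twEl_congr ?_ fun _ _ => rfl
  rw [inf_assoc, BrauerPairs.centralizer_inf_of_le hRT]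

/-- The pairs below a pair with the idempotent keep it. -/
theorem down {a b : Subgroup G × MonoidAlgebra (AlgInt ⧸ M) G}
    (hJb : ∀ c ∈ b.1, Commute J c) (hb : F.zR M b.1 * b.2 = b.2)
    (h : BrauerPairs.PLE 2 a b) : J ∈ a.1 → F.zR M a.1 * a.2 = a.2 := by
  induction h using Relation.ReflTransGen.head_induction_on with
  | refl => exact fun _ => hb
  | @head a c h1 h2 ih =>
    intro ha
    have hc : ∀ x ∈ c.1, Commute J x := fun x hx => hJb x (BrauerPairs.PLE.le h2 hx)
    refine step_down h1 (F.zR_mem ha) (F.zR_idem _) (F.zR_fixed hc h1.2.2.2.1) ?_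
    rw [F.br_zR h1.2.1.1 h1.2.2.1 hc h1.2.2.2.1]
    exact ih (h1.2.2.1 ha)

/-- The relations on one block of `C(J)`. -/
theorem block_cases (hpM : ((2 : ℕ) : AlgInt) ∈ M)
    {b : Set (IrrCharacter (Subgroup.centralizer ({J} : Set G)))} (hb : IsPBlock M b) :
    (F.zR M (Subgroup.zpowers J) * BrauerPairs.blk M _ b = BrauerPairs.blk M _ b ∧
      ∀ η ∈ b, ∀ v h : Subgroup.centralizer ({J} : Set G), (v : G) ∈ d.N →
        η.1 (v * h) = F.th v * η.1 h) ∨
    (F.zR M (Subgroup.zpowers J) * BrauerPairs.blk M _ b = 0 ∧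
      ∀ η ∈ b, ∀ (t : Finset (Subgroup.centralizer ({J} : Set G))),
        (∀ v, v ∈ t ↔ (v : G) ∈ d.N) →
        ∀ g, ∑ v ∈ t, F.th (v⁻¹ : Subgroup.centralizer ({J} : Set G)) * η.1 (v * g) = 0) := by
  haveI : Fact (Nat.Prime 2) := ⟨Nat.prime_two⟩
  have hC := Blocks.centralizer_zpowers_eq (x := J)
  have hx : J ∈ Subgroup.zpowers J := Subgroup.mem_zpowers J
  have h := blk_mul_twEl_cases (H := Subgroup.centralizer ({J} : Set G))
    (K := d.N ⊓ Subgroup.centralizer (Subgroup.zpowers J : Set G)) (θ := F.th) hpM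
    (hC ▸ inf_le_right)
    (fun c hc => by
      rw [← hC] at hc
      exact conj_mem_inf (centralizer_le_of_J hx hc) (Subgroup.centralizer_le_normalizer _ hc))
    (not_two_dvd _) (F.mulOn _) (fun v hv => F.memLocalRing_th hv.1)
    (fun c hc v hv => by
      rw [← hC] at hc
      exact F.th_conj (centralizer_le_of_J hx hc) hv.1) hb
  have hmem : ∀ v : Subgroup.centralizer ({J} : Set G),
      (v : G) ∈ d.N ⊓ Subgroup.centralizer (Subgroup.zpowers J : Set G) ↔ (v : G) ∈ d.N :=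
    fun v => ⟨fun h => h.1, fun h => ⟨h, hC.ge v.2⟩⟩
  rcases h with ⟨h1, h2⟩ | ⟨h1, h2⟩
  · exact Or.inl ⟨h1, fun η hη v h hv => h2 η hη v h ((hmem v).2 hv)⟩
  · exact Or.inr ⟨h1, fun η hη t ht g => h2 η hη t (fun v => (ht v).trans (hmem v).symm) g⟩

/-- An inducing block gives a pair. -/
theorem isPairOf_inducing {B : Set (IrrCharacter G)} (d : KleinBlock.Data J)
    {b : Set (IrrCharacter (Subgroup.centralizer ({J} : Set G)))}
    (hind : IsInducedBlock M (Subgroup.centralizer ({J} : Set G)) b B) :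
    BrauerPairs.IsPairOf 2 (BrauerPairs.blkG M B)
      (Subgroup.zpowers J, BrauerPairs.blk M _ b) := by
  haveI : Fact (Nat.Prime 2) := ⟨Nat.prime_two⟩
  have hC := Blocks.centralizer_zpowers_eq (x := J)
  have hb := BrauerPairs.isBlockIdem_blk (M := M) (Subgroup.centralizer ({J} : Set G)) hind.1
  refine BrauerPairs.isPairOf_of_induced (Blocks.isPGroup_zpowers ⟨1, by rw [d.hJ, pow_one]⟩)
    Blocks.zpowers_le_centralizer hC.le hind (f := BrauerPairs.blk M _ b) (by rw [hC]; exact hb) ?_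
  rw [BrauerPairs.br_eq_self fun y hy => hb.mem.1 y fun h => hy (hC.ge h), hb.idem]

/-- All blocks of `C(J)` with the idempotent coincide. -/
theorem block_unique (hpM : ((2 : ℕ) : AlgInt) ∈ M)
    {b b' : Set (IrrCharacter (Subgroup.centralizer ({J} : Set G)))}
    (hb : IsPBlock M b) (hb' : IsPBlock M b')
    (h : F.zR M (Subgroup.zpowers J) * BrauerPairs.blk M _ b = BrauerPairs.blk M _ b)
    (h' : F.zR M (Subgroup.zpowers J) * BrauerPairs.blk M _ b' = BrauerPairs.blk M _ b') :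
    b = b' := by
  classical
  haveI : Fact (Nat.Prime 2) := ⟨Nat.prime_two⟩
  obtain ⟨η, hη⟩ := BrauerPairs.nonempty_of_isPBlock hb
  obtain ⟨η', hη'⟩ := BrauerPairs.nonempty_of_isPBlock hb'
  have key : ∀ {c : Set (IrrCharacter (Subgroup.centralizer ({J} : Set G)))}, IsPBlock M c →
      F.zR M (Subgroup.zpowers J) * BrauerPairs.blk M _ c = BrauerPairs.blk M _ c →
      ∀ ξ ∈ c, ∀ g : Subgroup.centralizer ({J} : Set G), IsPRegular 2 g →
        centralChar ξ.1 g = ((Subgroup.centralizer ({g} : Set _)).index : ℂ) * F.th g := by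
    intro c hc hz ξ hξ g hg
    rcases F.block_cases hpM hc with ⟨-, h2⟩ | ⟨h1, -⟩
    · have hgV : (g : G) ∈ d.N := (d.mem_N _).2
        ⟨(Subgroup.mem_centralizer_singleton_iff.1 g.2).symm, by
          rw [Subgroup.orderOf_coe]
          exact Nat.not_even_iff_odd.1 fun h => hg (even_iff_two_dvd.1 h)⟩
      have h3 := h2 ξ hξ g 1 hgV
      rw [mul_one] at h3
      rw [centralChar, h3]
      have := Blocks.irr_one_ne_zero ξ
      field_simp
    · exact absurd (hz.symm.trans h1) (BrauerPairs.isBlockIdem_blk _ hc).ne_zero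
  rw [Blocks.block_eq hb hη, Blocks.block_eq hb' hη']
  refine Blocks.blockOf_eq (Blocks.sameBlock_of_regular hpM fun g hg => ?_)
  rw [key hb h η hη g hg, key hb' h' η' hη' g hg, sub_self]
  exact Blocks.memLocalIdeal_zero

/-- An element taking `J` into the four group and keeping the character on the fixed part. -/
theorem exists_mover {q : G} (hq : q ∈ d.P) (hq1 : q ≠ 1) :
    ∃ g : G, g * J * g⁻¹ = q ∧ ∀ x ∈ fixedPart d, F.th (g⁻¹ * x * g) = F.th x ∧
      g⁻¹ * x * g ∈ fixedPart d := by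
  have h1 : ∀ x ∈ fixedPart d, F.th (F.r⁻¹ * x * F.r) = F.th x ∧ F.r⁻¹ * x * F.r ∈ fixedPart d := by
    intro x hx
    have hm := (F.conj_mem_fixedPart hx).2
    have e : F.r * (F.r⁻¹ * x * F.r) * F.r⁻¹ = x := by group
    have h := F.th_shift hm (by rw [e]; exact (mem_fixedPart.1 hx).1)
    rw [e] at h
    exact ⟨h, hm⟩
  rcases d.two q hq with e | e | e | e
  · exact absurd e hq1
  · exact ⟨1, by rw [e]; group, fun x hx => by simp [hx]⟩
  · exact ⟨F.r, by rw [e, F.rJ], h1⟩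
  · refine ⟨F.r * F.r, by
      rw [e, ← F.ru, ← F.rJ]; group, fun x hx => ?_⟩
    obtain ⟨a1, a2⟩ := h1 x hx
    obtain ⟨b1, b2⟩ := h1 _ a2
    rw [show (F.r * F.r)⁻¹ * x * (F.r * F.r) = F.r⁻¹ * (F.r⁻¹ * x * F.r) * F.r by group]
    exact ⟨b1.trans a1, b2⟩

/-- The pairs of the block at `J` carry the idempotent. -/
theorem sec_pairs {B : MonoidAlgebra (AlgInt ⧸ M) G} (hBi : BrauerPairs.IsBlockIdem ⊤ B)
    {e₀ : MonoidAlgebra (AlgInt ⧸ M) G} (hmax : BrauerPairs.IsMax 2 B (d.P, e₀))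
    (he₀z : F.zR M d.P * e₀ = e₀) (f : MonoidAlgebra (AlgInt ⧸ M) G)
    (hf : BrauerPairs.IsPairOf 2 B (Subgroup.zpowers J, f)) :
    F.zR M (Subgroup.zpowers J) * f = f := by
  classical
  haveI : Fact (Nat.Prime 2) := ⟨Nat.prime_two⟩
  have hblk : ∀ H : Subgroup G, BrauerPairs.HasBlocks (AlgInt ⧸ M) H :=
    fun H => BrauerPairs.hasBlocks M H
  have hpair₀ : BrauerPairs.IsPair 2 (d.P, e₀) := hmax.1.1
  obtain ⟨g, hg⟩ := BrauerPairs.exists_conj_ple hblk hBi hmax hf
  set q := g * J * g⁻¹ with hqdef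
  have hqP : q ∈ d.P := hg.le ⟨J, Subgroup.mem_zpowers J, rfl⟩
  have hJ1 : J ≠ 1 := fun h => by
    have := d.hJ
    rw [h, orderOf_one] at this
    omega
  obtain ⟨m, hm, hmth⟩ := F.exists_mover hqP (fun h => hJ1 (conj_eq_one_iff.1 h))
  have hh : Commute J (m⁻¹ * g) := by
    refine (mul_inv_eq_iff_eq_mul.1 ?_).symm
    calc m⁻¹ * g * J * (m⁻¹ * g)⁻¹ = m⁻¹ * q * m := by rw [hqdef]; group
      _ = m⁻¹ * (m * J * m⁻¹) * m := by rw [hm]
      _ = J := by group
  have hQW : (Subgroup.zpowers J).map (MulAut.conj g).toMonoidHom = Subgroup.zpowers q := by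
    rw [MonoidHom.map_zpowers]
    rfl
  have hPC : d.P ≤ Subgroup.centralizer ({q} : Set G) := fun x hx =>
    Subgroup.mem_centralizer_singleton_iff.2 (d.comm x hx q hqP).eq
  have hPn : d.P ≤ Subgroup.normalizer (Subgroup.zpowers q : Set G) :=
    hPC.trans (Blocks.centralizer_zpowers_eq.ge.trans (Subgroup.centralizer_le_normalizer _))
  obtain ⟨f', hf', -⟩ := BrauerPairs.existsUnique_step hblk hpair₀
    (Subgroup.zpowers_le.2 hqP) hPn
  have hf'eq : f' = BrauerPairs.conjEl g f := by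
    refine BrauerPairs.ple_unique hblk hpair₀ _ _ _ (Relation.ReflTransGen.single hf') ?_
    rw [← hQW]
    exact hg
  subst hf'eq
  set z := BrauerPairs.conjEl g (F.zR M (Subgroup.zpowers J)) with hz
  have hzmem : z ∈ BrauerPairs.centerIn (AlgInt ⧸ M)
      (Subgroup.centralizer (Subgroup.zpowers q : Set G)) := by
    rw [← hQW, ← BrauerPairs.map_conj_centralizer]
    exact BrauerPairs.conjEl_mem_centerIn _ (F.zR_mem (Subgroup.mem_zpowers J))
  have hzP : z ∈ BrauerPairs.fixedBy (AlgInt ⧸ M) d.P :=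
    BrauerPairs.fixedBy_anti (hPC.trans Blocks.centralizer_zpowers_eq.ge) hzmem.2
  have hgq : g⁻¹ * q * g = J := by rw [hqdef]; group
  have hbr : BrauerPairs.br d.P z = F.zR M d.P := by
    rw [hz, Fix.zR, conjEl_twEl, br_twEl (isPGroup_P d), Fix.zR]
    · refine twEl_congr ?_ ?_
      · ext x
        simp only [Subgroup.mem_inf, Subgroup.mem_map_equiv, MulAut.conj_symm_apply]
        have hmemN : x ∈ Subgroup.centralizer (d.P : Set G) → (g⁻¹ * x * g ∈ d.N ↔ x ∈ d.N) := by
          intro hxP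
          have h1 : orderOf (g⁻¹ * x * g) = orderOf x := by
            simpa using MulEquiv.orderOf_eq (MulAut.conj g⁻¹) x
          have h2 : Commute J (g⁻¹ * x * g) := by
            have h := (show Commute q x from Subgroup.mem_centralizer_iff.1 hxP q hqP).map
              (MulAut.conj g⁻¹)
            simp only [MulAut.conj_apply, inv_inv] at h
            rwa [hgq] at h
          rw [d.mem_N, d.mem_N, h1]
          exact ⟨fun h => ⟨Subgroup.mem_centralizer_iff.1 hxP J d.jmem, h.2⟩, fun h => ⟨h2, h.2⟩⟩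
        constructor
        · rintro ⟨⟨h1, -⟩, h2⟩
          exact ⟨(hmemN h2).1 h1, h2⟩
        · rintro ⟨h1, h2⟩
          refine ⟨⟨(hmemN h2).2 h1, ?_⟩, h2⟩
          rw [Blocks.centralizer_zpowers_eq, Subgroup.mem_centralizer_singleton_iff]
          exact (commute_J ((hmemN h2).2 h1)).symm.eq
      · rintro x ⟨hx1, hxP⟩
        obtain ⟨y, hy, rfl⟩ := hx1
        have hxF : (MulAut.conj g).toMonoidHom y ∈ fixedPart d := mem_fixedPart.2
          ⟨(d.mem_N _).2 ⟨Subgroup.mem_centralizer_iff.1 hxP J d.jmem, by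
            rw [MulEquiv.coe_toMonoidHom, MulEquiv.orderOf_eq]; exact d.odd_of_mem hy.1⟩,
            Subgroup.mem_centralizer_iff.1 hxP d.u d.umem⟩
        have e : g⁻¹ * (MulAut.conj g).toMonoidHom y * g = y := by simp [mul_assoc]
        simp only [e]
        congr 1
        have e2 : m⁻¹ * (MulAut.conj g).toMonoidHom y * m = m⁻¹ * g * y * (m⁻¹ * g)⁻¹ := by
          simp [mul_assoc]
        rw [← (hmth _ hxF).1, e2, F.th_conj hh hy.1]
    · intro c hc
      refine BrauerPairs.mem_normalizer_of_conj_le ?_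
      rintro _ ⟨y, hy, rfl⟩
      have hh' : Commute J (g⁻¹ * c * g) := by
        have h := (show Commute q c from d.comm q hqP c hc).map (MulAut.conj g⁻¹)
        simp only [MulAut.conj_apply, inv_inv] at h
        rwa [hgq] at h
      refine ⟨g⁻¹ * c * g * y * (g⁻¹ * c * g)⁻¹, ⟨d.conjN _ hh' y hy.1, ?_⟩, ?_⟩
      · rw [Blocks.centralizer_zpowers_eq]
        exact Subgroup.mem_centralizer_singleton_iff.2
          (commute_J (d.conjN _ hh' y hy.1)).symm.eq
      · simp [mul_assoc]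
  have h := step_down hf' hzmem (by rw [hz, ← map_mul, F.zR_idem]) hzP (by rw [hbr]; exact he₀z)
  simp only [hz, ← map_mul] at h
  exact (BrauerPairs.conjEl g).injective h

/-- The Sylow pair. -/
theorem exists_sylow_pair (hpM : ((2 : ℕ) : AlgInt) ∈ M) {B : Set (IrrCharacter G)}
    (hB : IsPBlock M B) {η₀ : IrrCharacter (Subgroup.centralizer ({J} : Set G))}
    (hη₀ : η₀ ∈ Blocks.inducingSet M (Subgroup.centralizer ({J} : Set G)) B)
    (hη₀z : F.zR M (Subgroup.zpowers J) * BrauerPairs.blk M _ (blockOf M η₀.1) =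
      BrauerPairs.blk M _ (blockOf M η₀.1)) :
    ∃ e, BrauerPairs.IsMax 2 (BrauerPairs.blkG M B) (d.P, e) ∧ F.zR M d.P * e = e := by
  classical
  haveI : Fact (Nat.Prime 2) := ⟨Nat.prime_two⟩
  have hblk : ∀ H : Subgroup G, BrauerPairs.HasBlocks (AlgInt ⧸ M) H :=
    fun H => BrauerPairs.hasBlocks M H
  have hPJ : ∀ c ∈ d.P, Commute J c := fun c hc => d.comm J d.jmem c hc
  obtain ⟨e₀, he₀, he₀z⟩ : ∃ e, BrauerPairs.IsBlockIdem (Subgroup.centralizer (d.P : Set G)) e ∧
      F.zR M d.P * e = e := by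
    obtain ⟨s, hs, h1⟩ := hblk (Subgroup.centralizer (d.P : Set G))
    by_contra hno
    push Not at hno
    refine twEl_ne_zero (k := AlgInt ⧸ M) (p := 2)
      (K := d.N ⊓ Subgroup.centralizer (d.P : Set G)) (not_two_dvd _)
      (f := fun x => Blocks.red M (F.th x))
      (F.red_mulOn (Subgroup.centralizer (d.P : Set G))).1 ?_
    show F.zR M d.P = 0
    calc F.zR M d.P = F.zR M d.P * ∑ e ∈ s, e := by rw [h1, mul_one]
      _ = 0 := by
        rw [Finset.mul_sum]
        exact Finset.sum_eq_zero fun e he => ((hs e he).mul_eq_zero_or_self (F.zR_mem d.jmem)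
          (F.zR_idem _)).resolve_right (hno e (hs e he))
  have hpair₀ : BrauerPairs.IsPair 2 (d.P, e₀) := ⟨isPGroup_P d, he₀⟩
  obtain ⟨f₁, hf₁⟩ := BrauerPairs.exists_ple hblk hpair₀ (Subgroup.zpowers J)
    (Subgroup.zpowers_le.2 d.jmem)
  have hf₁z := F.down (b := (d.P, e₀)) hPJ he₀z hf₁ (Subgroup.mem_zpowers J)
  have hf₁i := (hf₁.isPair_left hpair₀).2
  rw [Blocks.centralizer_zpowers_eq] at hf₁i
  obtain ⟨b₁, hb₁, rfl⟩ := BrauerPairs.exists_eq_blk _ hf₁i
  have hb₁eq : b₁ = blockOf M η₀.1 :=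
    F.block_unique hpM hb₁ (Blocks.isPBlock_blockOf η₀) hf₁z hη₀z
  refine ⟨e₀, ⟨(BrauerPairs.ple_isPairOf_iff (BrauerPairs.isBlockIdem_blkG hB) hf₁).2 ?_,
    fun b hb => eq_P_of_le d hb.2.1.1 hb.2.2.1⟩, he₀z⟩
  rw [hb₁eq]
  exact isPairOf_inducing d hη₀

theorem conj_th_inv {v : G} (hv : v ∈ d.N) : conj (F.th v⁻¹) = F.th v := by
  have h2 := F.conj_mul_th hv
  have h1 : F.th v⁻¹ * F.th v = 1 := by
    rw [← F.th_mul (d.N.inv_mem hv) hv, inv_mul_cancel, th_one]
  have h3 : F.th v⁻¹ = conj (F.th v) := by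
    calc F.th v⁻¹ = F.th v⁻¹ * (F.th v * conj (F.th v)) := by rw [h2, mul_one]
      _ = conj (F.th v) := by rw [← mul_assoc, h1, one_mul]
  rw [h3, Complex.conj_conj]

/-- The values through the inducing set. -/
theorem apply_eq_sum (d : KleinBlock.Data J) (hpM : ((2 : ℕ) : AlgInt) ∈ M) {χ : IrrCharacter G}
    {B : Set (IrrCharacter G)} (hB : IsPBlock M B) (hχB : χ ∈ B) {v : G} (hvN : v ∈ d.N)
    [Fintype (Subgroup.centralizer ({J} : Set G))]
    (hv : v ∈ Subgroup.centralizer ({J} : Set G)) :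
    χ.1 (J * v) = ∑ k : Subgroup.centralizer ({J} : Set G),
      blockCoeff (Blocks.inducingSet M (Subgroup.centralizer ({J} : Set G)) B)
        (k * (⟨v, hv⟩ : Subgroup.centralizer ({J} : Set G))⁻¹) * χ.1 ((k : G) * J) := by
  classical
  haveI : Fact (Nat.Prime 2) := ⟨Nat.prime_two⟩
  have hg : IsPPart 2 (J * v) J := Blocks.isPPart_mul (commute_J hvN) ⟨1, by rw [d.hJ, pow_one]⟩
    fun h => (Nat.not_even_iff_odd.2 (d.odd_of_mem hvN)) (even_iff_two_dvd.2 h)
  set j : Subgroup.centralizer ({J} : Set G) := ⟨J, Subgroup.mem_centralizer_singleton_iff.2 rfl⟩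
  have h := Blocks.chiL_inducingSet hpM ⟨1, by rw [d.hJ, pow_one]⟩ hB χ (g := j * ⟨v, hv⟩) hg
  rw [if_pos hχB, Blocks.chiL_inclA_mul_single] at h
  refine h.symm.trans (Fintype.sum_equiv (Equiv.mulRight (⟨v, hv⟩ : Subgroup.centralizer
    ({J} : Set G))) _ _ fun k => ?_)
  rw [Blocks.coeff_blockIdem, Equiv.coe_mulRight, mul_inv_cancel_right]
  congr 1
  refine congrArg χ.1 ?_
  show (k : G) * (J * v) = (k : G) * v * J
  rw [mul_assoc, (commute_J hvN).eq]

/-- The value relation. -/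
theorem apply_J_mul (χ : IrrCharacter G)
    (hχ : (∑ v ∈ ZStar.oddCentralizing J, χ.1 (J * v) * conj (F.th v)) ≠ 0) :
    ∀ v ∈ d.N, χ.1 (J * v) = χ.1 J * F.th v := by
  classical
  obtain ⟨M, hM⟩ := ZStar.exists_isPModular_two
  haveI : Fact (Nat.Prime 2) := ⟨Nat.prime_two⟩
  haveI := hM.2.1
  haveI := Blocks.charP_residue (p := 2) hM.2.2
  have hpM := hM.2.2
  haveI := Fintype.ofFinite d.N
  letI := Fintype.ofFinite (Subgroup.centralizer ({J} : Set G))
  set B := blockOf M χ.1 with hBdef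
  have hB : IsPBlock M B := Blocks.isPBlock_blockOf χ
  have hχB : χ ∈ B := Blocks.mem_blockOf_self χ
  have hin : ∀ v : d.N, (v : G) ∈ Subgroup.centralizer ({J} : Set G) := fun v =>
    Subgroup.mem_centralizer_singleton_iff.2 (commute_J v.2).symm.eq
  obtain ⟨η₀, hη₀, hη₀z⟩ : ∃ η ∈ Blocks.inducingSet M (Subgroup.centralizer ({J} : Set G)) B,
      F.zR M (Subgroup.zpowers J) * BrauerPairs.blk M _ (blockOf M η.1) =
        BrauerPairs.blk M _ (blockOf M η.1) := by
    by_contra hno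
    push Not at hno
    refine hχ ?_
    rw [KleinMoved.sum_odd d fun v => χ.1 (J * v) * conj (F.th v),
      Finset.sum_congr rfl fun (v : d.N) _ => by
        rw [apply_eq_sum d hpM hB hχB v.2 (hin v), Finset.sum_mul]]
    rw [Finset.sum_comm]
    refine Finset.sum_eq_zero fun k _ => ?_
    simp only [Blocks.blockCoeff_eq_sum, Finset.mul_sum, Finset.sum_mul]
    rw [Finset.sum_comm]
    refine Finset.sum_eq_zero fun η hη => ?_
    have hz := (F.block_cases hpM (Blocks.isPBlock_blockOf η)).resolve_left fun h =>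
      hno η (Finset.mem_filter.1 hη).2 h.1
    have hinj : Function.Injective fun v : d.N =>
        (⟨v, hin v⟩ : Subgroup.centralizer ({J} : Set G))⁻¹ := fun a b h =>
      Subtype.ext (by simpa using h)
    have h2 := hz.2 η (Blocks.mem_blockOf_self η)
      (Finset.univ.image fun v : d.N => (⟨v, hin v⟩ : Subgroup.centralizer ({J} : Set G))⁻¹)
      (fun w => by
        simp only [Finset.mem_image, Finset.mem_univ, true_and]
        refine ⟨fun ⟨v, hv⟩ => hv ▸ d.N.inv_mem v.2, fun hw => ⟨⟨(w : G)⁻¹, d.N.inv_mem hw⟩, ?_⟩⟩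
        exact Subtype.ext (inv_inv _)) k
    rw [Finset.sum_image fun a _ b _ h => hinj h] at h2
    have h3 := congrArg conj h2
    rw [map_sum, map_zero] at h3
    refine Eq.trans ?_ (show (Nat.card (Subgroup.centralizer ({J} : Set G)) : ℂ)⁻¹ * η.1 1 *
      χ.1 ((k : G) * J) * 0 = 0 from mul_zero _)
    rw [← h3, Finset.mul_sum]
    refine Finset.sum_congr rfl fun v _ => ?_
    rw [map_mul, inv_inv, show η.1 (k * (⟨v, hin v⟩ : Subgroup.centralizer
      ({J} : Set G))⁻¹) = η.1 ((⟨v, hin v⟩ : Subgroup.centralizer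
        ({J} : Set G))⁻¹ * k) from ?_]
    · ring
    · exact Char.IsClassFunction.apply_mul_comm (Blocks.irr_classFun η) _ _
  obtain ⟨e₀, hmax, he₀z⟩ := F.exists_sylow_pair hpM hB hη₀ hη₀z
  intro v hv
  have h1 := apply_eq_sum d hpM hB hχB d.N.one_mem (one_mem _)
  rw [mul_one] at h1
  rw [apply_eq_sum d hpM hB hχB hv (hin ⟨v, hv⟩), h1, Finset.sum_mul]
  refine Finset.sum_congr rfl fun k _ => ?_
  simp only [Blocks.blockCoeff_eq_sum, Finset.mul_sum, Finset.sum_mul]
  refine Finset.sum_congr rfl fun η hη => ?_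
  rcases F.block_cases hpM (Blocks.isPBlock_blockOf η) with ⟨-, h2⟩ | ⟨hzero, -⟩
  · have h3 := h2 η (Blocks.mem_blockOf_self η) (⟨v, hin ⟨v, hv⟩⟩ : Subgroup.centralizer
      ({J} : Set G))⁻¹ k (d.N.inv_mem hv)
    have hu : (⟨1, one_mem _⟩ : Subgroup.centralizer ({J} : Set G)) = 1 := rfl
    rw [hu, inv_one, mul_one, Char.IsClassFunction.apply_mul_comm (Blocks.irr_classFun η) k, h3,
      map_mul, Subgroup.coe_inv, F.conj_th_inv hv]
    ring
  · exfalso
    refine (BrauerPairs.isBlockIdem_blk (M := M) _ (Blocks.isPBlock_blockOf η)).ne_zero ?_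
    rw [← hzero]
    exact (F.sec_pairs (BrauerPairs.isBlockIdem_blkG (M := M) hB) hmax he₀z _
      (isPairOf_inducing d (Finset.mem_filter.1 hη).2)).symm

end Fix

end Cfsg.Agent.GW.KleinFixed
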